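import Mathlib
import Cfsg.Agent.Lib.Comput.Check3
import Cfsg.Agent.Lib.LieModel.G24.P.Data

/-! generated by tools/cgt -/

set_option autoImplicit false
set_option maxRecDepth 100000
set_option Elab.async false

namespace CfsgLib.LieModel.G24.P

open CfsgLib.Comput

def R6_0 : RepC := ⟨30, 1, [],
  []⟩
def R6_1 : RepC := ⟨31, 1, [],
  []⟩
def R6_2 : RepC := ⟨0x1f1e, 1, [],
  []⟩
def S6_0 : GenC := ⟨30, [],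
  [(0, 0, 0, 1, 0), (0, 1, 0, 0, 0), (0, 2, 0, 3, 0), (0, 3, 0, 2, 0)], 0⟩
def S6_1 : GenC := ⟨31, [],
  [(0, 0, 0, 2, 0), (0, 1, 0, 3, 0), (0, 2, 0, 0, 0), (0, 3, 0, 1, 0)], 0⟩
def L6 : Level := ⟨0x0, 0x60000000, [], 1, 21, 0, 4, [R6_0, R6_1, R6_2], [S6_0, S6_1]⟩
def X6 : Ext := []

def R5_0 : RepC := ⟨27, 1, [(30, 30), (31, 31)],
  [(23, 1, [1, 2])]⟩
def R5_1 : RepC := ⟨29, 1, [(31, 31), (30, 30)],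
  [(21, 1, [1, 2])]⟩
def R5_2 : RepC := ⟨0x1d1b, 1, [(31, 31), (30, 30)],
  [(21, 1, [1, 2])]⟩
def S5_0 : GenC := ⟨27, [(31, 31)],
  [(0, 0, 0, 1, 0), (0, 1, 0, 0, 0x1f1e), (0, 2, 0, 3, 0), (0, 3, 0, 2, 0x1f1e)], 0⟩
def S5_1 : GenC := ⟨29, [(31, 31)],
  [(0, 0, 0, 2, 0), (0, 1, 0, 3, 0), (0, 2, 0, 0, 31), (0, 3, 0, 1, 31)], 0⟩
def L5 : Level := ⟨0x60000000, 0x7e000000, [30, 31], 4, 13, 0, 4, [R5_0, R5_1, R5_2], [S5_0, S5_1]⟩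
def X5 : Ext := [(25, 27, 0), (27, 29, 0)]

def R4_0 : RepC := ⟨0x1614, 1, [(0x1b1e, 27), (0x1d1e, 0x1d1f1e)],
  [(28, 3, [1, 2])]⟩
def R4_1 : RepC := ⟨0x1815, 1, [(29, 0x1d1f1e), (0x1b1f, 27)],
  [(21, 3, [1, 2])]⟩
def R4_2 : RepC := ⟨0x1917, 1, [(27, 0x1b1f1e), (0x1d1b1e, 0x1d1b1f1e)],
  [(23, 3, [1, 2])]⟩
def R4_3 : RepC := ⟨0x1b14, 4, [(30, 30), (31, 31)],
  [(24, 1, [1, 2])]⟩
def R4_4 : RepC := ⟨21, 4, [(30, 30), (0x1f1e, 0x1f1e)],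
  [(24, 1, [1, 2])]⟩
def S4_0 : GenC := ⟨21, [(30, 30)],
  [(0, 0, 0, 5, 0), (27, 4, 0, 0, 0x1f1e), (0, 5, 27, 4, 0x1f1e), (0x1d1b, 4, 0, 1, 30), (29, 4, 0, 2, 0), (0x1d1b, 5, 29, 4, 0x1d1b1e), (0, 1, 29, 5, 0x1d1f), (29, 5, 0x1d1b, 4, 0x1d1e), (0, 2, 0x1d1b, 5, 0x1d1b), (0, 3, 27, 5, 0x1d1f1e), (27, 5, 0, 4, 0x1b1f), (0, 4, 0, 3, 0x1d1b)], 0⟩
def L4 : Level := ⟨0x7e000000, 0x7ff80000, [27, 29, 30, 31], 16, 9, 0, 12, [R4_0, R4_1, R4_2, R4_3, R4_4], [S4_0]⟩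
def X4 : Ext := [(19, 21, 0), (21, 0, 0x151d1f), (22, 22, 0), (23, 0, 0x1b171d1b1e), (24, 24, 0)]

def R3_0 : RepC := ⟨17, 1, [(0x181b, 0x1b141d1b1f), (0x1b141d1b1e, 0x181b1f1e), (0x1d1b, 0x1d1b1e)],
  [(216, 4, [1, 2, 3])]⟩
def R3_1 : RepC := ⟨18, 1, [(0x191b, 0x1b151d1b1f1e), (23, 0x141d), (0x141f, 0x141f)],
  [(199, 4, [1, 2, 3])]⟩
def R3_2 : RepC := ⟨0xf0d, 1, [(0x171d1e, 0x171d1b), (0x1b14, 0x141d1e), (0x1b151b, 0x191d1e)],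
  [(158, 4, [1, 2, 3])]⟩
def R3_3 : RepC := ⟨0x190e, 12, [(29, 0x16141f1e), (27, 0x19171d1b1e)],
  [(25, 3, [1, 2])]⟩
def S3_0 : GenC := ⟨14, [(0x1614, 0x16141d), (0x1815, 0x18151d1b)],
  [(0, 0, 24, 4, 0), (25, 4, 0, 0, 25), (24, 4, 25, 4, 0x181f1e), (0, 4, 0, 4, 0x191f1e), (0x1b15, 4, 0, 3, 0x18151d1f1e), (0, 1, 20, 4, 0x18151b), (0, 2, 23, 4, 0x1b151d1e), (0, 3, 0x1b14, 4, 0x1b151d1e), (0x1d15, 4, 0, 2, 27), (21, 4, 0, 1, 0x1d15)], 1⟩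
def L3 : Level := ⟨0x7ff80000, 0x7ffff000, [21, 27, 29, 30, 31], 192, 5, 0, 16, [R3_0, R3_1, R3_2, R3_3], [S3_0]⟩
def X3 : Ext := [(12, 14, 0), (14, 0, 0x151b0e19171b1f1e), (15, 15, 0), (16, 0, 0x10160e1917), (17, 0, 0xd1b0e1b151b1f), (18, 18, 0)]

def R2_0 : RepC := ⟨9, 1, [(0xf1614, 0x181b1e), (0x1b101815, 0x1b151b1f1e), (0xd1f, 0x170f1b151b1e), (0xd171d, 0x151f1e)],
  [(223, 4, [1, 2, 3, 4]), (19, 3, [1, 2])]⟩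
def R2_1 : RepC := ⟨10, 1, [(0x160e181d1b1f, 0xe1d1b1f1e), (0x1b0e1b15, 0xd1b1e), (0xf151b1e, 0x160e151b1f), (0x1d1b1e, 0xf0d181d1f1e)],
  [(307, 4, [1, 2, 3, 4]), (16, 3, [1, 2])]⟩
def S2_0 : GenC := ⟨10, [(0x130e1b, 0xd151d)],
  [(0, 0, 0, 2, 0), (0, 1, 0, 0, 0), (0, 2, 0, 1, 0x1b0e141b1f1e)], 0⟩
def L2 : Level := ⟨0x7ffff000, 0x7fffff00, [14, 21, 27, 29, 30, 31], 3072, 2, 0, 3, [R2_0, R2_1], [S2_0]⟩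
def X2 : Ext := [(8, 10, 0), (10, 0, 0xa1215), (11, 11, 0)]

def R1_0 : RepC := ⟨0x51b06, 3, [(0xd1b1e, 0xd1b1e), (0x170f1917, 0x170f1917), (0x121614, 0x121e), (0x160e1d, 0x150e16141d1f)],
  [(176, 4, [1, 2, 3, 4]), (5, 3, [1, 2])]⟩
def R1_1 : RepC := ⟨5, 16, [(0xa170f181f1e, 0xa0e171b1f1e), (0x91d0e16141d1b1f1e, 0x9171b1f)],
  [(209, 8, [1, 2]), (2, 2, [1])]⟩
def S1_0 : GenC := ⟨6, [(0x171b, 0xf181d1f1e), (0x91d0e151d, 0x9101f)],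
  [(0, 0, 0x130e, 2, 0xa150e1b151d), (0, 2, 0, 0, 0), (10, 2, 0xf0d, 2, 0xd18151d1b1f), (17, 2, 0, 1, 0x12141b), (0, 1, 13, 2, 0xa150e1f)], 4⟩
def L1 : Level := ⟨0x7fffff00, 0x7ffffff0, [10, 14, 21, 27, 29, 30, 31], 9216, 1, 0, 20, [R1_0, R1_1], [S1_0]⟩
def X1 : Ext := [(4, 6, 0), (6, 0, 0x14060a121d151b1e), (7, 7, 0)]

def R0_0 : RepC := ⟨0x40a03, 20, [(0x171d1f, 0x171b), (0x1b0e181b, 0x1b0e141b1e), (0xa151d1f, 0x51d06091b0e181d1e)],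
  [(1069, 7, [1, 2, 3]), (73, 3, [1, 2])]⟩
def R0_1 : RepC := ⟨0x30803, 320, [(0x141d, 0x190e171d1b), (0x7070a19171d1e, 0x7070a170f1b151d1b)],
  [(118, 8, [1, 2]), (16, 2, [1])]⟩
def R0_2 : RepC := ⟨0x301030803, 1024, [(0x50a121b1f1e, 0x1806090f151e), (0x50a1217, 0x180609170f151d1f)],
  [(492, 7, [1, 2])]⟩
def S0_0 : GenC := ⟨3, [(0x1b0e16141f, 0x121d1b1f1e), (0x7070a130e1614, 0x51d06090d1614)],
  [(0, 0, 0x51b06, 1, 0x7070a1b101d1f1e), (0x51b06, 1, 0, 0, 0x51d06090f0d1d151d1b1f), (8, 1, 31, 2, 0x51d0609171d), (0, 1, 0, 1, 0x51d06111d1f), (0, 2, 0x1806, 1, 0x11141b1f1e), (5, 2, 29, 3, 0x7070a1b10151b1f), (10, 2, 0xc1f, 2, 0x7070a0f16141e), (0, 3, 0x81d1e, 2, 0x150e151d1f1e), (10, 3, 0x51c1e, 3, 0x1506090f0d1b151b1f1e)], 9⟩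
def L0 : Level := ⟨0x7ffffff0, 0x7fffffff, [6, 10, 14, 21, 27, 29, 30, 31], 184320, 0, 0, 1365, [R0_0, R0_1, R0_2], [S0_0]⟩
def X0 : Ext := [(0, 0, 0x81119171d), (1, 0, 0x1d0e141d), (3, 0, 0x51d061d1b)]

def top : List ℕ := [1, 2, 3, 4]
def gs : List ℕ := [3, 6, 10, 14, 21, 27, 29, 30, 31]
def XD : Ext := [(4, 0, 0x301020304030102030102040103010304030401020103020103), (5, 5, 0), (6, 0, 0x301030104020304020301030401030401030401020103), (7, 7, 0), (8, 0, 0x505080608060806), (9, 9, 0), (10, 0, 0x5080806070606), (11, 11, 0), (12, 0, 0x90b0a0a0a), (13, 13, 0), (14, 0, 0xb09), (15, 15, 0), (16, 0, 0x90b0b0b0a), (17, 0, 0xc0a), (18, 18, 0), (19, 0, 0xf121010), (20, 20, 0), (21, 0, 0x10110e0f), (22, 22, 0), (23, 0, 0xf0e100e), (24, 24, 0), (25, 0, 0x141914161914), (26, 26, 0), (27, 0, 0x151615171714),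 (28, 28, 0), (29, 0, 0x1b1b1c1c), (30, 0, 0x1d1b1d1a)]
def MX : Level.MaxC := [[(0x51b06, [0x7070a1b101d1f1e])], [(0x51b060808, [0, 0x90e16141f])], [(0x51b060808, [30, 0x91b1019171d1b])]]
def NC : NclD := ⟨0xb0703, 13, [(0, [0x1c0701, 0x509150e18151b1e]), (1, [0x101d, 0x1d060a170f151f1e]), (2, [0x10a1417, 0x307031206030707160e191d1f1e]), (3, [0x1a19, 0x509150e18151f1e])]⟩

/-- all the equations of the certificate -/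
structure Eqs {G : Type*} [Group G] (g : ℕ → G) : Prop where
  l6 : AllHold g L6.eqns
  x6 : AllHold g X6.eqns
  l5 : AllHold g L5.eqns
  x5 : AllHold g X5.eqns
  l4 : AllHold g L4.eqns
  x4 : AllHold g X4.eqns
  l3 : AllHold g L3.eqns
  x3 : AllHold g X3.eqns
  l2 : AllHold g L2.eqns
  x2 : AllHold g X2.eqns
  l1 : AllHold g L1.eqns
  x1 : AllHold g X1.eqns
  l0 : AllHold g L0.eqns
  x0 : AllHold g X0.eqns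
  xd : AllHold g XD.eqns
  mx : AllHold g (L0.maxEqns MX)
  nc : AllHold g NC.eqns

end CfsgLib.LieModel.G24.P
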